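import Mathlib.RingTheory.Trace.Basic
import Mathlib.RingTheory.Length
import Mathlib.RingTheory.SimpleModule.Basic
import Mathlib.RingTheory.LocalRing.ResidueField.Basic
import Mathlib.RingTheory.Artinian.Module

/-!
# Trace of a finite local algebra: length times the trace of the residue field
-/

namespace Groth.TraceLocal

universe u

/-- The trace of an endomorphism preserving the terms of a short exact sequence. -/
theorem trace_eq_add {k U V W : Type*} [Field k] [AddCommGroup U] [Module k U] [AddCommGroup V]
    [Module k V] [AddCommGroup W] [Module k W] [FiniteDimensional k U] [FiniteDimensional k V]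
    [FiniteDimensional k W] (φ : U →ₗ[k] V) (π : V →ₗ[k] W) (hφ : Function.Injective φ)
    (hπ : Function.Surjective π) (hex : LinearMap.range φ = LinearMap.ker π)
    (f : V →ₗ[k] V) (g : U →ₗ[k] U) (h : W →ₗ[k] W)
    (hg : f ∘ₗ φ = φ ∘ₗ g) (hh : π ∘ₗ f = h ∘ₗ π) :
    LinearMap.trace k V f = LinearMap.trace k U g + LinearMap.trace k W h := by
  obtain ⟨s, hs⟩ := π.exists_rightInverse_of_surjective (LinearMap.range_eq_top.2 hπ)
  obtain ⟨r₀, hr₀⟩ := φ.exists_leftInverse_of_injective (LinearMap.ker_eq_bot.2 hφ)
  let r : V →ₗ[k] U := r₀ ∘ₗ (LinearMap.id - s ∘ₗ π)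
  have hsπ : ∀ w, π (s w) = w := fun w => LinearMap.congr_fun hs w
  have hrφ : r ∘ₗ φ = LinearMap.id := LinearMap.ext fun u => by
    have : π (φ u) = 0 := LinearMap.mem_ker.1 (hex ▸ LinearMap.mem_range_self φ u)
    simp [r, this, ← LinearMap.comp_apply r₀ φ, hr₀]
  have hid : ∀ v, φ (r v) + s (π v) = v := fun v => by
    have : v - s (π v) ∈ LinearMap.range φ := by rw [hex]; simp [hsπ]
    obtain ⟨u, hu⟩ := this
    have hr : r v = u := by
      show r₀ (v - s (π v)) = u
      rw [← hu, ← LinearMap.comp_apply r₀ φ, hr₀, LinearMap.id_apply]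
    rw [hr, hu, sub_add_cancel]
  have hf : f = φ ∘ₗ (r ∘ₗ f) + s ∘ₗ (π ∘ₗ f) := LinearMap.ext fun v => by simp [hid]
  conv_lhs => rw [hf]
  rw [map_add, LinearMap.trace_comp_comm' (r ∘ₗ f) φ, LinearMap.trace_comp_comm' (π ∘ₗ f) s]
  congr 1
  · rw [LinearMap.comp_assoc, hg, ← LinearMap.comp_assoc, hrφ, LinearMap.id_comp]
  · rw [hh, LinearMap.comp_assoc, hs, LinearMap.comp_id]

variable {k C : Type u} [Field k] [CommRing C] [Algebra k C] [IsLocalRing C] [Module.Finite k C]

open IsLocalRing

theorem trace_module (c : C) : ∀ (n : ℕ) (M : Type u) [AddCommGroup M] [Module C M] [Module k M]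
    [IsScalarTower k C M] [Module.Finite k M], Module.finrank k M = n →
    LinearMap.trace k M ((LinearMap.lsmul C M c).restrictScalars k) =
      (Module.length C M).toNat • Algebra.trace k (ResidueField C) (residue C c) := by
  intro n
  induction n using Nat.strong_induction_on with
  | _ n ih =>
    intro M _ _ _ _ _ hn
    rcases subsingleton_or_nontrivial M with hM | hM
    · rw [Module.length_eq_zero, ENat.toNat_zero, zero_smul,
        show (LinearMap.lsmul C M c).restrictScalars k = 0 from LinearMap.ext fun x => Subsingleton.elim _ _, map_zero]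
    · have : IsArtinian C M := isArtinian_of_tower k inferInstance
      have : IsNoetherian C M := isNoetherian_of_tower k inferInstance
      obtain ⟨N, hN, -⟩ := (IsAtomic.eq_bot_or_exists_atom_le (⊤ : Submodule C M)).resolve_left top_ne_bot
      have : IsSimpleModule C N := isSimpleModule_iff_isAtom.mpr hN
      obtain ⟨I, hI, ⟨e⟩⟩ := isSimpleModule_iff_quot_maximal.mp this
      obtain rfl := IsLocalRing.eq_maximalIdeal hI
      have hNfin : Module.Finite k N := Module.Finite.of_injective (N.subtype.restrictScalars k) Subtype.val_injective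
      have hQfin : Module.Finite k (M ⧸ N) := Module.Finite.of_surjective (N.mkQ.restrictScalars k) N.mkQ_surjective
      have hpos : 0 < Module.finrank k N := by
        have : Nontrivial N := IsSimpleModule.nontrivial C N
        exact Module.finrank_pos
      have hsum := Submodule.finrank_quotient_add_finrank (N.restrictScalars k)
      have hlt : Module.finrank k (M ⧸ N) < n := by
        have h1 : Module.finrank k (M ⧸ N.restrictScalars k) = Module.finrank k (M ⧸ N) :=
          (Submodule.Quotient.restrictScalarsEquiv k N).finrank_eq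
        have h2 : Module.finrank k (N.restrictScalars k) = Module.finrank k N := rfl
        omega
      have hQ := ih _ hlt (M ⧸ N) rfl
      have hlen : Module.length C M = 1 + Module.length C (M ⧸ N) := by
        rw [Module.length_eq_add_of_exact N.subtype N.mkQ Subtype.val_injective N.mkQ_surjective
          (LinearMap.exact_subtype_mkQ N), Module.length_eq_one]
      have hfin : Module.length C (M ⧸ N) ≠ ⊤ := Module.length_ne_top
      rw [hlen, ENat.toNat_add (by simp) hfin, ENat.toNat_one, add_smul, one_smul, ← hQ,
        trace_eq_add (N.subtype.restrictScalars k) (N.mkQ.restrictScalars k) Subtype.val_injective N.mkQ_surjective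
          (by ext x; simp) _ ((LinearMap.lsmul C N c).restrictScalars k) ((LinearMap.lsmul C (M ⧸ N) c).restrictScalars k)
          (LinearMap.ext fun x => rfl) (LinearMap.ext fun x => rfl)]
      congr 1
      rw [Algebra.trace_apply, ← LinearMap.trace_conj' ((LinearMap.lsmul C N c).restrictScalars k) (e.restrictScalars k)]
      congr 1
      refine LinearMap.ext fun y => ?_
      rw [LinearEquiv.conj_apply_apply]
      show e (c • e.symm y) = _
      rw [map_smul, e.apply_symm_apply]
      rfl

theorem trace_eq (c : C) :
    Algebra.trace k C c = (Module.length C C).toNat • Algebra.trace k (ResidueField C) (residue C c) := by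
  rw [← trace_module c _ C rfl, Algebra.trace_apply]
  rfl

theorem trace_surjective_iff :
    Function.Surjective (Algebra.trace k C) ↔
      (Algebra.IsSeparable k (ResidueField C) ∧ ((Module.length C C).toNat : k) ≠ 0) := by
  constructor
  · intro h
    obtain ⟨c, hc⟩ := h 1
    rw [trace_eq, nsmul_eq_mul] at hc
    refine ⟨?_, left_ne_zero_of_mul (hc ▸ one_ne_zero)⟩
    by_contra hs
    rw [Algebra.trace_eq_zero_of_not_isSeparable hs, LinearMap.zero_apply, mul_zero] at hc
    exact zero_ne_one hc
  · rintro ⟨hs, hL⟩ x
    obtain ⟨y, hy⟩ := Algebra.trace_surjective k (ResidueField C) (((Module.length C C).toNat : k)⁻¹ * x)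
    obtain ⟨c, rfl⟩ := residue_surjective y
    exact ⟨c, by rw [trace_eq, nsmul_eq_mul, hy, mul_inv_cancel_left₀ hL]⟩

end Groth.TraceLocal
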